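import Mathlib
import Groth.Agent.S2348
import Groth.Agent.S4464
import Groth.Agent.Lib.Lead.Blow8
import Groth.Agent.Lib.Lead.Blow6

set_option linter.style.haveILetI false
set_option linter.unusedVariables false
set_option linter.unusedSectionVars false
set_option autoImplicit false
set_option backward.isDefEq.respectTransparency.types false
set_option backward.isDefEq.respectTransparency false
set_option synthInstance.maxHeartbeats 400000
set_option maxHeartbeats 1600000

universe u

/-! helper7: the closed fibre of a blowing up of a unibranch noetherian local domain is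
preconnected (S4472); glue of the landed S2348 (blow-ups of integral schemes are integral and
birational) and S4464 (Zariski connectedness over unibranch points). -/

open CategoryTheory CategoryTheory.Limits AlgebraicGeometry TopologicalSpace Opposite

namespace Groth.Agent.Helper7.BlowConn

/-- unibranchness is invariant under ring isomorphisms -/
theorem isUnibranch_of_ringEquiv {A B : Type u} [CommRing A] [CommRing B] [IsLocalRing A]
    [IsLocalRing B] (e : A ≃+* B) (h : CAlg2.IsUnibranch A) : CAlg2.IsUnibranch B := by
  obtain ⟨hdom, hloc⟩ := h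
  haveI := hdom
  haveI := hloc
  have hnil : nilradical B = (nilradical A).map (e : A →+* B) := by
    ext x
    rw [mem_nilradical, Ideal.mem_map_iff_of_surjective (e : A →+* B) e.surjective]
    constructor
    · intro hx
      refine ⟨e.symm x, ?_, by simp⟩
      rw [mem_nilradical]
      exact hx.map e.symm
    · rintro ⟨a, ha, rfl⟩
      exact (mem_nilradical.mp ha).map (e : A →+* B)
  let e' : CAlg2.red A ≃+* CAlg2.red B := Ideal.quotientEquiv _ _ e hnil
  haveI hdomB : IsDomain (CAlg2.red B) :=
    Function.Injective.isDomain (e'.symm : CAlg2.red B →+* CAlg2.red A) e'.symm.injective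
  let K := FractionRing (CAlg2.red A)
  let L := FractionRing (CAlg2.red B)
  let E : K ≃+* L := IsFractionRing.ringEquivOfRingEquiv e'
  have hE : ∀ a, E (algebraMap (CAlg2.red A) K a) = algebraMap (CAlg2.red B) L (e' a) :=
    fun a => IsFractionRing.ringEquivOfRingEquiv_algebraMap e' a
  have hE' : ∀ c, E.symm (algebraMap (CAlg2.red B) L c) =
      algebraMap (CAlg2.red A) K (e'.symm c) := by
    intro c
    rw [RingEquiv.symm_apply_eq, hE, RingEquiv.apply_symm_apply]
  have h1 : ∀ x : K, IsIntegral (CAlg2.red A) x → IsIntegral (CAlg2.red B) (E x) := by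
    intro x hx
    exact IsIntegral.map_of_comp_eq (e' : CAlg2.red A →+* CAlg2.red B) (E : K →+* L)
      (RingHom.ext fun a => (hE a).symm) hx
  have h2 : ∀ y : L, IsIntegral (CAlg2.red B) y → IsIntegral (CAlg2.red A) (E.symm y) := by
    intro y hy
    exact IsIntegral.map_of_comp_eq (e'.symm : CAlg2.red B →+* CAlg2.red A) (E.symm : L →+* K)
      (RingHom.ext fun c => (hE' c).symm) hy
  let g : CAlg2.normRed A →+* CAlg2.normRed B :=
    ((E : K →+* L).comp (algebraMap (CAlg2.normRed A) K)).codRestrict
      (integralClosure (CAlg2.red B) L) (fun x => h1 _ x.2)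
  have hg : Function.Surjective g := by
    intro y
    refine ⟨⟨E.symm y.1, h2 _ y.2⟩, ?_⟩
    apply Subtype.ext
    change E (E.symm y.1) = y.1
    exact E.apply_symm_apply _
  haveI : Nontrivial (CAlg2.normRed B) := inferInstance
  exact ⟨hdomB, IsLocalRing.of_surjective' g hg⟩

/-- the local ring of `Spec A` at the closed point of a unibranch local ring `A` is unibranch -/
theorem isUnibranch_stalk_closedPoint (A : Type u) [CommRing A] [IsLocalRing A]
    (hA : CAlg2.IsUnibranch A) :
    CAlg2.IsUnibranch
      ((Spec (CommRingCat.of A)).presheaf.stalk (IsLocalRing.closedPoint A)) := by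
  let y : PrimeSpectrum A := IsLocalRing.closedPoint A
  letI alg : Algebra A ((Spec (CommRingCat.of A)).presheaf.stalk (IsLocalRing.closedPoint A)) :=
    StructureSheaf.stalkAlgebra (R := A) y
  haveI hloc : IsLocalization.AtPrime
      ((Spec (CommRingCat.of A)).presheaf.stalk (IsLocalRing.closedPoint A)) y.asIdeal :=
    StructureSheaf.IsLocalization.to_stalk A y
  let e : A ≃ₐ[A] ((Spec (CommRingCat.of A)).presheaf.stalk (IsLocalRing.closedPoint A)) :=
    IsLocalization.atUnits A y.asIdeal.primeCompl (fun x hx => by
      by_contra hnu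
      exact hx ((IsLocalRing.mem_maximalIdeal x).mpr hnu))
  exact isUnibranch_of_ringEquiv e.toRingEquiv hA

/-- **S4472**: the closed fibre of a blowing up of a unibranch noetherian local domain is
preconnected. -/
theorem main (A : Type u) [CommRing A] [IsDomain A] [IsNoetherianRing A] [IsLocalRing A]
    (hA : CAlg2.IsUnibranch A) (𝔞 : Ideal A) {X : Scheme.{u}}
    (b : X ⟶ Spec (CommRingCat.of A))
    (hb : BlowUp.IsBlowUp b
      (Scheme.IdealSheafData.ofIdealTop (𝔞.map (Scheme.ΓSpecIso (CommRingCat.of A)).inv.hom))) :
    PreconnectedSpace ↥(b.fiber (IsLocalRing.closedPoint A)) := by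
  classical
  set 𝓘 : (Spec (CommRingCat.of A)).IdealSheafData :=
    Scheme.IdealSheafData.ofIdealTop (𝔞.map (Scheme.ΓSpecIso (CommRingCat.of A)).inv.hom) with h𝓘
  have htop : 𝓘.ideal ⟨⊤, isAffineOpen_top _⟩ =
      𝔞.map (Scheme.ΓSpecIso (CommRingCat.of A)).inv.hom :=
    Groth.Agent.Lead.Blow.specIdeal_ideal_top 𝔞
  by_cases h0 : 𝔞 = ⊥
  · have h𝓘0 : 𝓘 = ⊥ := by
      apply Scheme.IdealSheafData.ext_of_isAffine
      rw [htop, h0, Ideal.map_bot]
      rfl
    have hX : IsEmpty X := by
      refine ⟨fun x => ?_⟩
      obtain ⟨U, hxU, -⟩ := hb.1 x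
      refine Groth.Agent.Lead.Blow.false_of_ideal_eq_bot (𝓘.comap b) hb.1 U x hxU ?_
      rw [h𝓘0, Scheme.IdealSheafData.comap_bot]
      rfl
    haveI : IsEmpty ↥(b.fiber (IsLocalRing.closedPoint A)) :=
      ⟨fun z => hX.false ((b.fiberι _).base z)⟩
    refine ⟨?_⟩
    have : (Set.univ : Set ↥(b.fiber (IsLocalRing.closedPoint A))) = ∅ :=
      Set.eq_empty_of_isEmpty _
    rw [this]
    exact isPreconnected_empty
  · have h𝓘ne : 𝓘 ≠ ⊥ := by
      intro h
      apply h0
      have h1 : 𝔞.map (Scheme.ΓSpecIso (CommRingCat.of A)).inv.hom = ⊥ := by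
        rw [← htop, h]
        rfl
      refine (Ideal.map_eq_bot_iff_of_injective ?_).mp h1
      exact (ConcreteCategory.bijective_of_isIso (Scheme.ΓSpecIso (CommRingCat.of A)).inv).1
    haveI : IsDomain ↑(CommRingCat.of A) := ‹IsDomain A›
    haveI : IsNoetherianRing ↑(CommRingCat.of A) := ‹IsNoetherianRing A›
    haveI hYint : IsIntegral (Spec (CommRingCat.of A)) := inferInstance
    haveI hYnoeth : IsLocallyNoetherian (Spec (CommRingCat.of A)) := inferInstance
    obtain ⟨hint, hgen, hbij⟩ := Groth.Agent.S2348.result 𝓘 h𝓘ne b hb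
    haveI := hint
    haveI hprop : IsProper b := by
      refine Groth.Agent.Lead.Blow.isProper_of_isBlowUp_affine 𝓘 ?_ b hb
      rw [htop]
      exact Ideal.FG.map (IsNoetherian.noetherian 𝔞) _
    haveI : IsLocallyNoetherian X := LocallyOfFiniteType.isLocallyNoetherian b
    have hdom : b.base (genericPoint X) ⤳ genericPoint (Spec (CommRingCat.of A)) := by
      rw [hgen]
    have hgen' : genericPoint (Spec (CommRingCat.of A)) ⤳ b.base (genericPoint X) := by
      rw [hgen]
    have hsurj : Function.Surjective
        (CohIII.stalkToFunctionField b (genericPoint (Spec (CommRingCat.of A))) hdom) := by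
      intro z
      have hinj : Function.Injective (X.residue (genericPoint X)).hom :=
        RingHom.injective ((X.residue (genericPoint X)).hom : X.functionField →+* _)
      obtain ⟨wbar, hwbar⟩ := hbij.2 ((X.residue (genericPoint X)).hom z)
      obtain ⟨w, hw⟩ :=
        Scheme.residue_surjective (Spec (CommRingCat.of A)) (b.base (genericPoint X)) wbar
      refine ⟨((Spec (CommRingCat.of A)).presheaf.stalkSpecializes hgen').hom w, ?_⟩
      unfold CohIII.stalkToFunctionField
      rw [RingHom.comp_apply]
      have e1 : ((Spec (CommRingCat.of A)).presheaf.stalkSpecializes hdom).hom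
          (((Spec (CommRingCat.of A)).presheaf.stalkSpecializes hgen').hom w) = w := by
        have h3 := TopCat.Presheaf.stalkSpecializes_comp
          (Spec (CommRingCat.of A)).presheaf hdom hgen'
        have h4 : (Spec (CommRingCat.of A)).presheaf.stalkSpecializes (hdom.trans hgen') = 𝟙 _ :=
          TopCat.Presheaf.stalkSpecializes_refl _ _
        rw [h4] at h3
        have h5 := congrArg (fun φ => φ.hom w) h3
        simpa using h5
      rw [e1]
      apply hinj
      rw [← hwbar, ← hw]
      have h6 := Scheme.residue_residueFieldMap b (genericPoint X)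
      have h7 := congrArg (fun φ => φ.hom w) h6
      simpa using h7.symm
    have hrad : ∀ x : X.functionField,
        (∃ q : Polynomial (Spec (CommRingCat.of A)).functionField, q ≠ 0 ∧
          Polynomial.eval₂ (CohIII.stalkToFunctionField b
            (genericPoint (Spec (CommRingCat.of A))) hdom) x q = 0) →
        ∃ e : ℕ, x ^ (ringExpChar X.functionField ^ e) ∈
          Set.range (CohIII.stalkToFunctionField b
            (genericPoint (Spec (CommRingCat.of A))) hdom) := by
      intro x _
      refine ⟨0, ?_⟩
      rw [pow_zero, pow_one]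
      exact hsurj x
    have hconn := Groth.Agent.S4464.result b hdom hrad (IsLocalRing.closedPoint A)
      (isUnibranch_stalk_closedPoint A hA)
    exact hconn.toPreconnectedSpace

end Groth.Agent.Helper7.BlowConn
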